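import Cfsg.Agent.CosetEnum.HeH.Orbits
import Cfsg.Agent.CosetEnum.Simple

set_option autoImplicit false
set_option maxRecDepth 100000

/-! Maximality of the point stabiliser in `Cfsg.Spor.He`. -/

namespace CfsgLib.CosetEnum.HeH

/-- The suborbits. -/
def suborbits : List ℕ := [R0, R1, R2, R3]

theorem cover : allR (fun i => bif Nat.blt i 2058 then memberOf suborbits (2 ^ suborbits.length - 1) i else true) 12 0 = true := by
  decide +kernel

theorem no_block (m : ℕ) (hm : m < 2 ^ suborbits.length) : noBlock 2058 12 suborbits m = true := by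
  have hm' : m < 16 := hm
  interval_cases m <;> decide +kernel

theorem maximal [Finite CfsgLib.CosetEnum.He.setup.Grp] (φ : CfsgLib.CosetEnum.He.setup.Grp →* Equiv.Perm (Fin enum.n))
    (e : CfsgLib.CosetEnum.He.setup.Grp ⧸ enum.H ≃ Fin enum.n)
    (hφ : ∀ (w : List ℕ), (∀ x ∈ w, x < CfsgLib.CosetEnum.He.setup.k) → ∀ i : Fin enum.n,
      ((φ (prodw CfsgLib.CosetEnum.He.setup.g w))⁻¹ i).val = walk enum.tb w i)
    (he : ∀ (y : CfsgLib.CosetEnum.He.setup.Grp) (q : CfsgLib.CosetEnum.He.setup.Grp ⧸ enum.H), e (y • q) = φ y (e q))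
    (he0 : e ((1 : CfsgLib.CosetEnum.He.setup.Grp) : CfsgLib.CosetEnum.He.setup.Grp ⧸ enum.H) = 0)
    {K : Subgroup CfsgLib.CosetEnum.He.setup.Grp} (hK : enum.H ≤ K) : K = enum.H ∨ K = ⊤ := by
  refine eq_or_eq_top_of_le φ e he he0 suborbits ?_ (d := 12) (show 2058 ≤ 2 ^ 12 by decide) cover no_block hK
  intro o ho
  have key : ∀ (i0 : Fin enum.n) (R dR steps : ℕ),
      reach enum.tb (fun s => enum.sW.getD s []) dR steps i0.val = R →
      ∀ j, bit R j = true → ∃ h ∈ enum.H, ((φ h)⁻¹ i0).val = j := fun i0 R dR steps hR =>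
    reach_mem (H := enum.H) (fun s => enum.sW.getD s []) enum.sW.length (fun s => prodw CfsgLib.CosetEnum.He.setup.g (enum.sW.getD s []))
      (fun s hs => Subgroup.subset_closure ⟨s, hs, rfl⟩)
      (fun s hs i => hφ _ (enum.sW_lt _ (by
        rw [List.getD_eq_getElem _ _ hs]; exact List.getElem_mem hs)) i)
      (fun s hs => List.getD_eq_default _ _ hs) i0 hR
  have ho' : o < 4 := ho
  interval_cases o
  · exact ⟨⟨1, show 1 < 2058 by decide⟩, key _ _ 11 O0 reach0⟩
  · exact ⟨⟨2, show 2 < 2058 by decide⟩, key _ _ 9 O1 reach1⟩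
  · exact ⟨⟨46, show 46 < 2058 by decide⟩, key _ _ 8 O2 reach2⟩
  · exact ⟨⟨65, show 65 < 2058 by decide⟩, key _ _ 8 O3 reach3⟩

end CfsgLib.CosetEnum.HeH
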