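import Cfsg.Agent.CosetEnum.HeOrder.Order
import Cfsg.Agent.CosetEnum.HeSimple.Closure2
import Cfsg.Agent.CosetEnum.HeSimple.Primitive
import Cfsg.Agent.CosetEnum.WordTest

set_option autoImplicit false
set_option maxRecDepth 100000
set_option exponentiation.threshold 200000

/-! Simplicity of the presented Held group. -/

namespace CfsgLib.CosetEnum.He

/-- A coset moved by each non-trivial element of the extraspecial subgroup. -/
def movedPoint (a : ZMod 3 × ZMod 3 × ZMod 3) : ℕ :=
  [0, 2, 2, 1, 1, 1, 1, 1, 1, 0, 0, 0, 0, 0, 0, 0, 0, 0, 0, 0, 0, 0, 0, 0, 0, 0, 0].getD (9 * a.1.val + 3 * a.2.1.val + a.2.2.val) 0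

theorem movedPoint_lt : ∀ a, movedPoint a < 2058 := by decide +kernel

theorem movedPoint_moves : ∀ a : ZMod 3 × ZMod 3 × ZMod 3, a ≠ (0, 0, 0) →
    Nat.beq (walk HeH.enum.tb ((List.replicate a.1.val [1, 2, 3, 2, 1, 4]).flatten ++
      (List.replicate a.2.1.val [3, 2, 3, 2, 4, 3]).flatten ++ (List.replicate a.2.2.val [1, 2, 1, 3, 2, 1, 3, 2, 4, 3, 2, 1, 3, 2, 3, 2, 1, 3, 2, 3, 2, 4, 3]).flatten)
      (movedPoint a)) (movedPoint a) = false := by decide +kernel

theorem factorization_order : Nat.factorization 4030387200 3 = 3 := by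
  have h : 4030387200 = 3 ^ 3 * 149273600 := by norm_num
  rw [h, Nat.factorization_mul (by norm_num) (by norm_num), Nat.Prime.factorization_pow (by norm_num)]
  simp [Nat.factorization_eq_zero_of_not_dvd (show ¬ 3 ∣ 149273600 by decide +kernel)]

theorem normal_eq_top (N : Subgroup setup.Grp) [N.Normal] (hN : N ≠ ⊥) : N = ⊤ := by
  haveI := finite_grp
  obtain ⟨φ, e, hφ, he, he0, hinj, hcard⟩ := order_and_action
  have hn : 2058 ∣ Nat.card N :=
    dvd_card_normal e he hinj (fun K hK => HeH.maximal φ e hφ he he0 hK) N hN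
  have hpN : 3 ∣ Nat.card N := (show 3 ∣ 2058 by decide).trans hn
  have hlt : ∀ v : List ℕ, (∀ a ∈ v, a < 7) → ∀ a ∈ v, a < setup.k := fun v h => h
  have same : ∀ v u : List ℕ, (∀ a ∈ v, a < 7) → (∀ a ∈ u, a < 7) →
      allR (sameWord HeH.enum.n HeH.enum.tb v u) 12 0 = true → prodw setup.g v = prodw setup.g u :=
    fun v u hv hu h => prodw_eq_of_sameWord hinj hφ v u (hlt v hv) (hlt u hu) (show 2058 ≤ 2 ^ 12 by decide) h
  set X := prodw setup.g [1, 2, 3, 2, 1, 4] with hX
  set Y := prodw setup.g [3, 2, 3, 2, 4, 3] with hY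
  set Z := prodw setup.g [1, 2, 1, 3, 2, 1, 3, 2, 4, 3, 2, 1, 3, 2, 3, 2, 1, 3, 2, 3, 2, 4, 3] with hZ
  have hX3 : X ^ 3 = 1 := by
    rw [hX, ← prodw_replicate, ← prodw_nil setup.g]
    exact same _ _ (by decide) (by decide) (by decide +kernel)
  have hY3 : Y ^ 3 = 1 := by
    rw [hY, ← prodw_replicate, ← prodw_nil setup.g]
    exact same _ _ (by decide) (by decide) (by decide +kernel)
  have hZ3 : Z ^ 3 = 1 := by
    rw [hZ, ← prodw_replicate, ← prodw_nil setup.g]
    exact same _ _ (by decide) (by decide) (by decide +kernel)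
  have hXZ : Commute X Z := by
    show X * Z = Z * X
    rw [hX, hZ, ← prodw_append, ← prodw_append]
    exact same _ _ (by decide) (by decide) (by decide +kernel)
  have hYZ : Commute Y Z := by
    show Y * Z = Z * Y
    rw [hY, hZ, ← prodw_append, ← prodw_append]
    exact same _ _ (by decide) (by decide) (by decide +kernel)
  have hYX : Y * X = X * Y * Z := by
    rw [hX, hY, hZ, ← prodw_append, ← prodw_append, ← prodw_append]
    exact same _ _ (by decide) (by decide) (by decide +kernel)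
  have hne : ∀ a, a ≠ (0, 0, 0) → heisElt X Y Z a ≠ 1 := by
    intro a ha
    have hrep : heisElt X Y Z a = prodw setup.g ((List.replicate a.1.val [1, 2, 3, 2, 1, 4]).flatten ++
        (List.replicate a.2.1.val [3, 2, 3, 2, 4, 3]).flatten ++ (List.replicate a.2.2.val [1, 2, 1, 3, 2, 1, 3, 2, 4, 3, 2, 1, 3, 2, 3, 2, 1, 3, 2, 3, 2, 4, 3]).flatten) := by
      rw [prodw_append, prodw_append, prodw_replicate, prodw_replicate, prodw_replicate]; rfl
    rw [hrep]
    refine prodw_ne_one_of_moves hφ _ (hlt _ ?_) (movedPoint a) (movedPoint_lt a) ?_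
    · clear hrep; revert a; decide +kernel
    · exact movedPoint_moves a ha
  have hwN : prodw setup.g HeH.wElt ∈ N :=
    mem_normal_of_heisenberg X Y Z hX3 hY3 hZ3 hXZ hYZ hYX hne
      (by rw [hcard]; exact factorization_order) N hpN
  rw [eq_top_iff, ← setup.letSub_all (List.range 7) (fun x hx => List.mem_range.mpr hx)]
  refine (Subgroup.closure_le _).mpr ?_
  rintro _ ⟨x, hx, rfl⟩
  have := HeH.generators_mem φ hφ N hwN hinj x (List.mem_range.mp hx)
  simpa [prodw] using this

theorem isSimpleGroup_He : IsSimpleGroup Cfsg.Spor.He := by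
  have hne : Nontrivial Cfsg.Spor.He := (@Finite.one_lt_card_iff_nontrivial _ finite_grp).mp
    (lt_of_lt_of_eq (show (1 : ℕ) < _ by norm_num) (card_He).symm)
  exact { toNontrivial := hne
          eq_bot_or_eq_top_of_normal := fun N hN => (em (N = ⊥)).imp id fun h => @normal_eq_top N hN h }

end CfsgLib.CosetEnum.He
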